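import Groth.Agent.Lib.Flatness.Criterion
import Groth.Agent.Lib.BlowUp.FlatSub
import Mathlib.RingTheory.Flat.Equalizer
import Mathlib.RingTheory.TensorProduct.Quotient

/-!
# Exact complexes of flat modules and square zero thickenings
-/

set_option autoImplicit false
universe u

open TensorProduct Function

namespace GrothLib.KoszulSqZero14

section Flat

variable {R : Type u} [CommRing R] (F : ℕ → Type u) [∀ n, AddCommGroup (F n)] [∀ n, Module R (F n)]
  [∀ n, Module.Flat R (F n)] (d : ∀ n, F (n + 1) →ₗ[R] F n)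

theorem flat_coker (hex : ∀ n, Exact (d (n + 1)) (d n))
    (hQ : Module.Flat R (F 0 ⧸ LinearMap.range (d 0))) :
    ∀ n, Module.Flat R (F n ⧸ LinearMap.range (d n))
  | 0 => hQ
  | n + 1 => by
    haveI := flat_coker hex hQ n
    haveI : Module.Flat R (LinearMap.range (d n)) :=
      GrothLib.BlowUp.flat_of_exact_left (LinearMap.range (d n)).subtype Subtype.val_injective
        (LinearMap.range (d n)).mkQ (Submodule.mkQ_surjective _) (LinearMap.exact_subtype_mkQ _)
    exact Module.Flat.of_linearEquiv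
      ((Submodule.quotEquivOfEq _ _ (hex n).linearMap_ker_eq.symm).trans (d n).quotKerEquivRange)

theorem exact_lTensor (hex : ∀ n, Exact (d (n + 1)) (d n))
    (hQ : Module.Flat R (F 0 ⧸ LinearMap.range (d 0))) (N : Type u) [AddCommGroup N] [Module R N] (n : ℕ) :
    Exact ((d (n + 1)).lTensor N) ((d n).lTensor N) := by
  haveI := flat_coker F d hex hQ n
  have hinj : Injective ((LinearMap.range (d n)).subtype.lTensor N) :=
    LinearMap.lTensor_injective_of_exact_of_flat (LinearMap.range (d n)).mkQ (Submodule.mkQ_surjective _)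
      _ Subtype.val_injective (LinearMap.exact_subtype_mkQ _) N
  have h1 : Exact (d (n + 1)) (d n).rangeRestrict := fun x =>
    (Subtype.ext_iff.trans (Iff.rfl : (d n x = 0) ↔ _)).trans (hex n x)
  have h2 : Exact ((d (n + 1)).lTensor N) ((d n).rangeRestrict.lTensor N) :=
    lTensor_exact N h1 (d n).surjective_rangeRestrict
  have h3 : (d n).lTensor N = ((LinearMap.range (d n)).subtype.lTensor N) ∘ₗ (d n).rangeRestrict.lTensor N := by
    rw [← LinearMap.lTensor_comp]
    rfl
  intro x
  rw [h3, LinearMap.comp_apply, map_eq_zero_iff _ hinj]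
  exact h2 x

end Flat

variable {A : Type u} [CommRing A]

theorem tmul_smul_top_eq_zero {M : Type u} [AddCommGroup M] [Module A M] (J : Ideal A) {x : M}
    (hx : x ∈ J • (⊤ : Submodule A M)) : ((1 : A ⧸ J) ⊗ₜ[A] x) = 0 := by
  induction hx using Submodule.smul_induction_on' with
  | smul a ha m _ =>
    rw [← smul_tmul, Algebra.smul_def, mul_one, Ideal.Quotient.algebraMap_eq,
      Ideal.Quotient.eq_zero_iff_mem.2 ha, zero_tmul]
  | add x _ y _ hx hy => rw [tmul_add, hx, hy, add_zero]

theorem mem_smul_top_of_tmul_eq_zero {M : Type u} [AddCommGroup M] [Module A M] (J : Ideal A) {x : M}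
    (hx : ((1 : A ⧸ J) ⊗ₜ[A] x) = 0) : x ∈ J • (⊤ : Submodule A M) := by
  have h := congrArg (TensorProduct.quotTensorEquivQuotSMul M J) hx
  rw [map_zero, show (1 : A ⧸ J) = Ideal.Quotient.mk J 1 from (map_one _).symm] at h
  simpa [Submodule.Quotient.mk_eq_zero] using h

theorem exists_one_tmul {M : Type u} [AddCommGroup M] [Module A M] (J : Ideal A) (z : (A ⧸ J) ⊗[A] M) :
    ∃ m, (1 : A ⧸ J) ⊗ₜ[A] m = z := by
  induction z using TensorProduct.induction_on with
  | zero => exact ⟨0, tmul_zero _ _⟩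
  | tmul r m =>
    obtain ⟨r, rfl⟩ := Ideal.Quotient.mk_surjective r
    exact ⟨r • m, by rw [← smul_tmul, Algebra.smul_def, mul_one, Ideal.Quotient.algebraMap_eq]⟩
  | add a b ha hb =>
    obtain ⟨m, rfl⟩ := ha
    obtain ⟨m', rfl⟩ := hb
    exact ⟨m + m', tmul_add _ _ _⟩

/-- A complex of flat modules whose reduction modulo a square zero ideal is exact with flat cokernel is exact
with flat cokernel. -/
theorem exact_and_flat_of_sqZero (J : Ideal A) (hJ : J * J = ⊥) (F : ℕ → Type u) [∀ n, AddCommGroup (F n)]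
    [∀ n, Module A (F n)] [∀ n, Module.Flat A (F n)] (d : ∀ n, F (n + 1) →ₗ[A] F n)
    (hd : ∀ n x, d n (d (n + 1) x) = 0)
    (hex : ∀ n x, d n x ∈ J • (⊤ : Submodule A (F n)) →
      ∃ y, x - d (n + 1) y ∈ J • (⊤ : Submodule A (F (n + 1))))
    (hQ : Module.Flat (A ⧸ J) ((A ⧸ J) ⊗[A] (F 0 ⧸ LinearMap.range (d 0)))) :
    (∀ n, Exact (d (n + 1)) (d n)) ∧ Module.Flat A (F 0 ⧸ LinearMap.range (d 0)) := by
  let R := A ⧸ J
  haveI : ∀ n, Module.Flat R (R ⊗[A] F n) := fun n => inferInstance
  let db : ∀ n, R ⊗[A] F (n + 1) →ₗ[R] R ⊗[A] F n := fun n => (d n).baseChange R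
  have hexb : ∀ n, Exact (db (n + 1)) (db n) := by
    intro n z
    constructor
    · intro hz
      obtain ⟨x, rfl⟩ := exists_one_tmul J z
      obtain ⟨y, hy⟩ := hex n x (mem_smul_top_of_tmul_eq_zero J (by simpa [db] using hz))
      refine ⟨(1 : R) ⊗ₜ y, ?_⟩
      have h := tmul_smul_top_eq_zero J hy
      rw [tmul_sub, sub_eq_zero] at h
      simpa [db] using h.symm
    · rintro ⟨w, rfl⟩
      obtain ⟨y, rfl⟩ := exists_one_tmul J w
      simp [db, hd]
  have hQb : Module.Flat R ((R ⊗[A] F 0) ⧸ LinearMap.range (db 0)) := by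
    have hexQ : Exact (db 0) ((LinearMap.range (d 0)).mkQ.baseChange R) :=
      lTensor_exact R (LinearMap.exact_map_mkQ_range (d 0)) (Submodule.mkQ_surjective _)
    have hsurj : Surjective ((LinearMap.range (d 0)).mkQ.baseChange R) :=
      LinearMap.lTensor_surjective R (Submodule.mkQ_surjective _)
    exact Module.Flat.of_linearEquiv
      ((Submodule.quotEquivOfEq _ _ hexQ.linearMap_ker_eq.symm).trans
        (((LinearMap.range (d 0)).mkQ.baseChange R).quotKerEquivOfSurjective hsurj))
  have hJJ : Module.IsTorsionBySet A J (J : Set A) := fun x a => Subtype.ext (by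
    have h : (a : A) * (x : A) ∈ (⊥ : Ideal A) := hJ ▸ Ideal.mul_mem_mul a.2 x.2
    simpa using (Ideal.mem_bot).1 h)
  letI : Module R J := hJJ.module
  haveI : IsScalarTower A R J := hJJ.isScalarTower
  -- `J ⊗ -` of the complex is exact
  have hJex : ∀ n, Exact ((d (n + 1)).lTensor J) ((d n).lTensor J) := by
    intro n
    let e : ∀ m, J ⊗[R] (R ⊗[A] F m) ≃ₗ[R] J ⊗[A] F m := fun m =>
      AlgebraTensorModule.cancelBaseChange A R R J (F m)
    have key : ∀ m (z : J ⊗[R] (R ⊗[A] F (m + 1))),
        e m ((db m).lTensor J z) = (d m).lTensor J (e (m + 1) z) := by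
      intro m z
      induction z using TensorProduct.induction_on with
      | zero => simp
      | add a b ha hb => simp only [map_add, ha, hb]
      | tmul j w =>
        induction w using TensorProduct.induction_on with
        | zero => simp
        | add a b ha hb => simp only [tmul_add, map_add, ha, hb]
        | tmul r x => simp [e, db]
    have h := exact_lTensor (fun m => R ⊗[A] F m) db hexb hQb J n
    intro z
    obtain ⟨w, rfl⟩ := (e (n + 1)).surjective z
    rw [← key]
    constructor
    · intro hz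
      obtain ⟨v, rfl⟩ := (h w).1 ((e n).map_eq_zero_iff.1 hz)
      exact ⟨e _ v, (key _ v).symm⟩
    · rintro ⟨v, hv⟩
      obtain ⟨v, rfl⟩ := (e _).surjective v
      rw [← key] at hv
      rw [(h w).2 ⟨v, (e _).injective hv⟩, map_zero]
  let μ : ∀ n, J ⊗[A] F n →ₗ[A] F n := fun n => (TensorProduct.lid A (F n)).toLinearMap ∘ₗ J.subtype.rTensor (F n)
  have hμ : ∀ n, Injective (μ n) := fun n => (TensorProduct.lid A (F n)).injective.comp
    (Module.Flat.rTensor_preserves_injective_linearMap J.subtype Subtype.val_injective)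
  have hμd : ∀ n z, μ n ((d n).lTensor J z) = d n (μ (n + 1) z) := by
    intro n z
    induction z using TensorProduct.induction_on with
    | zero => simp
    | add a b ha hb => simp only [map_add, ha, hb]
    | tmul j x => simp [μ]
  have hμr : ∀ n x, x ∈ J • (⊤ : Submodule A (F n)) → ∃ w, μ n w = x := by
    intro n x hx
    induction hx using Submodule.smul_induction_on' with
    | smul a ha m _ => exact ⟨⟨a, ha⟩ ⊗ₜ m, by simp [μ]⟩
    | add x _ y _ hx hy =>
      obtain ⟨w, rfl⟩ := hx
      obtain ⟨w', rfl⟩ := hy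
      exact ⟨w + w', map_add _ _ _⟩
  have hexA : ∀ n, Exact (d (n + 1)) (d n) := by
    intro n x
    constructor
    · intro hx
      obtain ⟨y, hy⟩ := hex n x (by rw [hx]; exact zero_mem _)
      obtain ⟨w, hw⟩ := hμr _ _ hy
      have h1 : (d n).lTensor J w = 0 := hμ n (by rw [hμd, hw, map_zero, map_sub, hx, hd, sub_zero])
      obtain ⟨v, rfl⟩ := (hJex n w).1 h1
      refine ⟨y + μ _ v, ?_⟩
      rw [map_add, ← hμd, hw, add_sub_cancel]
    · rintro ⟨y, rfl⟩
      exact hd n y
  refine ⟨hexA, GrothLib.Flatness.flat_of_isNilpotent J ⟨2, by rw [pow_two, hJ]; rfl⟩ ?_ hQ⟩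
  -- Tor vanishing
  rw [LinearMap.lTensor_inj_iff_rTensor_inj, injective_iff_map_eq_zero]
  intro z hz
  let π := (LinearMap.range (d 0)).mkQ
  obtain ⟨w, rfl⟩ := LinearMap.lTensor_surjective J (Submodule.mkQ_surjective _) z
  have h1 : μ 0 w ∈ LinearMap.range (d 0) := by
    rw [← Submodule.Quotient.mk_eq_zero]
    have : ∀ w : J ⊗[A] F 0, π (μ 0 w) =
        TensorProduct.lid A _ (J.subtype.rTensor _ (π.lTensor J w)) := by
      intro w
      induction w using TensorProduct.induction_on with
      | zero => simp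
      | add a b ha hb => simp only [map_add, ha, hb]
      | tmul j x => simp [μ, π]
    show π (μ 0 w) = 0
    rw [this, hz, map_zero]
  obtain ⟨y, hy⟩ := h1
  have hy' : d 0 y ∈ J • (⊤ : Submodule A (F 0)) := by
    rw [hy]
    clear hy hz
    induction w using TensorProduct.induction_on with
    | zero => simp
    | add a b ha hb => rw [map_add]; exact add_mem ha hb
    | tmul j x => simpa [μ] using Submodule.smul_mem_smul j.2 (Submodule.mem_top (x := x))
  obtain ⟨y', hy''⟩ := hex 0 y hy'
  obtain ⟨v, hv⟩ := hμr _ _ hy''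
  have h2 : (d 0).lTensor J v = w := hμ 0 (by rw [hμd, hv, map_sub, hd, sub_zero, hy])
  rw [← h2, ← LinearMap.comp_apply, ← LinearMap.lTensor_comp]
  have : π ∘ₗ d 0 = 0 := LinearMap.ext fun y => (Submodule.Quotient.mk_eq_zero _).2 ⟨y, rfl⟩
  rw [this]
  simp

end GrothLib.KoszulSqZero14
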